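import Mathlib.LinearAlgebra.Matrix.SpecialLinearGroup
import Mathlib.FieldTheory.Finite.Basic
import Mathlib.Algebra.Group.Subgroup.Map
import Mathlib.Tactic.FieldSimp
import Mathlib.Tactic.LinearCombination
import Mathlib.Tactic.NormNum

/-!
# The normal closure of a transvection of `SL₂(F)`; a primitive prime divisor for `³D₄(q)` (helper367)

* `range_le` : a subgroup normalised by the image of `SL₂(F)`, `F` finite, containing the image of one transvection
  `≠ 1`, contains the whole image;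
* `exists_prime` : `q = r ^ e`, `e ≠ 0`: some prime `t ≠ r`, `t ∣ q ^ 2 + q + 1`, `¬ t ∣ q ^ 2 - 1`, `t ≥ 5`.
-/

set_option autoImplicit false

namespace Cfsg.Agent.H367.TD

open Matrix

universe u v

variable {F : Type u} [Field F]

/-- upper transvections -/
def up (c : F) : SpecialLinearGroup (Fin 2) F := ⟨!![1, c; 0, 1], by simp [Matrix.det_fin_two]⟩

/-- lower transvections -/
def low (c : F) : SpecialLinearGroup (Fin 2) F := ⟨!![1, 0; c, 1], by simp [Matrix.det_fin_two]⟩

theorem coe_up (c : F) : (up c : Matrix (Fin 2) (Fin 2) F) = !![1, c; 0, 1] := rfl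

theorem coe_low (c : F) : (low c : Matrix (Fin 2) (Fin 2) F) = !![1, 0; c, 1] := rfl

theorem up_add (a b : F) : up (a + b) = up a * up b := by
  apply Subtype.ext
  rw [SpecialLinearGroup.coe_mul, coe_up, coe_up, coe_up, Matrix.mul_fin_two]
  congr 1 <;> simp [add_comm]

/-- the diagonal elements -/
def dg (a : F) (ha : a ≠ 0) : SpecialLinearGroup (Fin 2) F := ⟨!![a, 0; 0, a⁻¹], by
  simp [Matrix.det_fin_two, ha]⟩

/-- the Weyl element -/
def ww : SpecialLinearGroup (Fin 2) F := ⟨!![0, 1; -1, 0], by simp [Matrix.det_fin_two]⟩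

theorem coe_dg (a : F) (ha : a ≠ 0) : (dg a ha : Matrix (Fin 2) (Fin 2) F) = !![a, 0; 0, a⁻¹] := rfl

theorem coe_ww : ((ww : SpecialLinearGroup (Fin 2) F) : Matrix (Fin 2) (Fin 2) F) = !![0, 1; -1, 0] := rfl

theorem dg_up (a : F) (ha : a ≠ 0) (c : F) : dg a ha * up c = up (a ^ 2 * c) * dg a ha := by
  apply Subtype.ext
  rw [SpecialLinearGroup.coe_mul, SpecialLinearGroup.coe_mul, coe_up, coe_up, coe_dg, Matrix.mul_fin_two,
    Matrix.mul_fin_two]
  ext i j
  fin_cases i <;> fin_cases j <;> simp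
  field_simp

theorem ww_up (c : F) : (ww : SpecialLinearGroup (Fin 2) F) * up c = low (-c) * ww := by
  apply Subtype.ext
  rw [SpecialLinearGroup.coe_mul, SpecialLinearGroup.coe_mul, coe_up, coe_low, coe_ww, Matrix.mul_fin_two,
    Matrix.mul_fin_two]
  ext i j
  fin_cases i <;> fin_cases j <;> simp

theorem coe_dec (a b c d : F) : ((up a * low b * up c * low d : SpecialLinearGroup (Fin 2) F) :
    Matrix (Fin 2) (Fin 2) F) =
      !![(1 + a * b) + ((1 + a * b) * c + a) * d, (1 + a * b) * c + a; b + (b * c + 1) * d, b * c + 1] := by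
  rw [SpecialLinearGroup.coe_mul, SpecialLinearGroup.coe_mul, SpecialLinearGroup.coe_mul, coe_up, coe_up, coe_low,
    coe_low, Matrix.mul_fin_two, Matrix.mul_fin_two, Matrix.mul_fin_two]
  ext i j
  fin_cases i <;> fin_cases j <;> simp

theorem exists_dec (g : SpecialLinearGroup (Fin 2) F) : ∃ a b c d : F, g = up a * low b * up c * low d := by
  have hdet := g.2
  rw [Matrix.det_fin_two] at hdet
  obtain ⟨M, hM⟩ := g
  simp only [] at hdet
  by_cases hc : M 1 0 = 0
  · have hd : M 1 1 ≠ 0 := by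
      intro h
      rw [hc, h] at hdet
      simp at hdet
    refine ⟨(M 0 0 + M 0 1 - 1) / M 1 1, M 1 1, (M 1 1 - 1) / M 1 1, -1, Subtype.ext ?_⟩
    rw [coe_dec]
    rw [hc, mul_zero, sub_zero] at hdet
    ext i j
    fin_cases i <;> fin_cases j <;> simp
    · field_simp
      first | linear_combination (-1 : F) * hdet | linear_combination hdet
    · field_simp
      first | linear_combination (-1 : F) * hdet | linear_combination hdet
    · rw [hc]
      field_simp
      ring
    · field_simp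
      ring
  · refine ⟨(M 0 0 - 1) / M 1 0, M 1 0, (M 1 1 - 1) / M 1 0, 0, Subtype.ext ?_⟩
    rw [coe_dec]
    ext i j
    fin_cases i <;> fin_cases j <;> simp
    · field_simp
      ring
    · field_simp
      linear_combination (-1 : F) * hdet
    · field_simp
      ring

theorem exists_sq_add_sq [Finite F] (x : F) : ∃ a b : F, x = a ^ 2 + b ^ 2 := by
  classical
  have _ := Fintype.ofFinite F
  by_cases h2 : ringChar F = 2
  · obtain ⟨a, ha⟩ := FiniteField.isSquare_of_char_two h2 x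
    exact ⟨a, 0, by rw [ha]; ring⟩
  · have hodd : Fintype.card F % 2 = 1 := FiniteField.odd_card_of_char_ne_two h2
    obtain ⟨a, b, h⟩ := FiniteField.exists_root_sum_quadratic (R := F) (f := Polynomial.X ^ 2)
      (g := Polynomial.X ^ 2 - Polynomial.C x) (Polynomial.degree_X_pow 2)
      (Polynomial.degree_X_pow_sub_C (by norm_num) x) hodd
    refine ⟨a, b, ?_⟩
    simp only [Polynomial.eval_pow, Polynomial.eval_X, Polynomial.eval_sub, Polynomial.eval_C] at h
    linear_combination (-1 : F) * h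

/-- **The normal closure of a transvection of `SL₂(F)`.** -/
theorem range_le [Finite F] {Y : Type v} [Group Y] (φ : SpecialLinearGroup (Fin 2) F →* Y) {R : Subgroup Y}
    (hR : ∀ g, ∀ y ∈ R, φ g * y * (φ g)⁻¹ ∈ R) {c : F} (hc : c ≠ 0) (h : φ (up c) ∈ R) : φ.range ≤ R := by
  have hconj : ∀ g x : SpecialLinearGroup (Fin 2) F, φ x ∈ R → φ (g * x * g⁻¹) ∈ R := by
    intro g x hx
    rw [map_mul, map_mul, map_inv]
    exact hR g _ hx
  have h1 : ∀ a : F, φ (up (a ^ 2 * c)) ∈ R := by
    intro a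
    by_cases ha : a = 0
    · have e : (up (a ^ 2 * c) : SpecialLinearGroup (Fin 2) F) = 1 := by
        ext i j
        fin_cases i <;> fin_cases j <;> simp [up, ha]
      rw [e, map_one]
      exact R.one_mem
    · have e : (up (a ^ 2 * c) : SpecialLinearGroup (Fin 2) F) = dg a ha * up c * (dg a ha)⁻¹ := by
        rw [dg_up, mul_inv_cancel_right]
      rw [e]
      exact hconj _ _ h
  have h2 : ∀ x : F, φ (up x) ∈ R := by
    intro x
    obtain ⟨a, b, e⟩ := exists_sq_add_sq (x / c)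
    have e1 : x = a ^ 2 * c + b ^ 2 * c := by
      rw [← add_mul, ← e, div_mul_cancel₀ _ hc]
    rw [e1, up_add, map_mul]
    exact R.mul_mem (h1 a) (h1 b)
  have h3 : ∀ x : F, φ (low x) ∈ R := by
    intro x
    have e : (low x : SpecialLinearGroup (Fin 2) F) = ww * up (-x) * ww⁻¹ := by
      rw [ww_up, neg_neg, mul_inv_cancel_right]
    rw [e]
    exact hconj _ _ (h2 _)
  rintro _ ⟨g, rfl⟩
  obtain ⟨a, b, c, d, rfl⟩ := exists_dec g
  rw [map_mul, map_mul, map_mul]
  exact R.mul_mem (R.mul_mem (R.mul_mem (h2 _) (h3 _)) (h2 _)) (h3 _)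

/-- `q ^ 2 + q + 1` has a prime divisor `≥ 5`, prime to `q ^ 2 - 1` -/
theorem exists_prime {q : ℕ} (hq : 2 ≤ q) :
    ∃ t : ℕ, t.Prime ∧ t ∣ q ^ 2 + q + 1 ∧ ¬ t ∣ q ^ 2 - 1 ∧ ¬ t ∣ q ∧ 5 ≤ t := by
  -- `9` does not divide `q ^ 2 + q + 1`
  have h9 : ¬ 9 ∣ q ^ 2 + q + 1 := by
    intro h
    have h1 : (q ^ 2 + q + 1) % 9 = 0 := Nat.mod_eq_zero_of_dvd h
    have h2 : ((q % 9) ^ 2 + q % 9 + 1) % 9 = 0 := by
      rw [← h1]
      simp [Nat.add_mod, Nat.pow_mod]
    have h3 : q % 9 < 9 := Nat.mod_lt _ (by norm_num)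
    interval_cases (q % 9) <;> simp at h2
  obtain ⟨t, ht, htq, ht3⟩ : ∃ t : ℕ, t.Prime ∧ t ∣ q ^ 2 + q + 1 ∧ t ≠ 3 := by
    by_contra hcon
    push Not at hcon
    have h1 : q ^ 2 + q + 1 = 3 ^ (q ^ 2 + q + 1).primeFactorsList.length :=
      Nat.eq_prime_pow_of_unique_prime_dvd (by omega) (fun {d} hd hdd => hcon d hd hdd)
    rcases Nat.lt_or_ge (q ^ 2 + q + 1).primeFactorsList.length 2 with h2 | h2
    · have h3 : (3 : ℕ) ^ (q ^ 2 + q + 1).primeFactorsList.length ≤ 3 ^ 1 :=
        Nat.pow_le_pow_right (by norm_num) (by omega)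
      rw [← h1] at h3
      nlinarith
    · apply h9
      rw [h1]
      exact pow_dvd_pow 3 h2
  have ht2 : t ≠ 2 := by
    rintro rfl
    have h1 : Even (q * (q + 1)) := Nat.even_mul_succ_self q
    have h2 : Even (q ^ 2 + q + 1) := even_iff_two_dvd.2 htq
    rw [show q ^ 2 + q + 1 = q * (q + 1) + 1 by ring] at h2
    exact absurd h2 (Nat.not_even_iff_odd.2 h1.add_one)
  have htnq : ¬ t ∣ q := by
    intro h
    have h1 : t ∣ 1 := by
      have h2 : t ∣ q ^ 2 + q := by
        rw [pow_two]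
        exact (Dvd.dvd.mul_right h q).add h
      exact (Nat.dvd_add_right h2).1 htq
    exact ht.one_lt.ne' (Nat.dvd_one.1 h1)
  refine ⟨t, ht, htq, ?_, htnq, ?_⟩
  · intro h
    have hq1 : q ^ 2 - 1 = (q - 1) * (q + 1) := by
      zify [show 1 ≤ q ^ 2 from Nat.one_le_pow _ _ (by omega), show 1 ≤ q by omega]
      ring
    rw [hq1] at h
    rcases (Nat.Prime.dvd_mul ht).1 h with h1 | h1
    · -- `q ≡ 1`: `t ∣ 3`
      have h2 : t ∣ 3 := by
        have h3 : q ^ 2 + q + 1 = (q - 1) * (q + 2) + 3 := by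
          zify [show 1 ≤ q by omega]
          ring
        rw [h3] at htq
        exact (Nat.dvd_add_right (h1.mul_right _)).1 htq
      exact ht3 ((Nat.prime_dvd_prime_iff_eq ht Nat.prime_three).1 h2)
    · have h2 : t ∣ 1 := by
        rw [show q ^ 2 + q + 1 = (q + 1) * q + 1 by ring] at htq
        exact (Nat.dvd_add_right (h1.mul_right _)).1 htq
      exact ht.one_lt.ne' (Nat.dvd_one.1 h2)
  · have h2 := ht.two_le
    by_contra hlt
    push Not at hlt
    interval_cases t
    · exact ht2 rfl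
    · exact ht3 rfl
    · exact absurd ht (by decide)

end Cfsg.Agent.H367.TD
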